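import Cfsg.Agent.Lib.Fischer3T52.TwentyThree.Recog.Order3

/-!
# Generation
-/

set_option autoImplicit false
set_option linter.unusedSectionVars false

namespace Cfsg.Agent.Lib.Fischer3T52.TwentyThree.Recog

open Cfsg Cfsg.Agent.Lib.ThreeTransp Cfsg.Agent.Lib.M22Struct66
open Cfsg.Agent.Lib.Fischer3T60.Recog (le_of_prod_mem)

variable {G : Type*} [Group G] [Finite G] {D : Set G}

namespace Hyp

variable (hH : Hyp D) {d₀ : G} (hd₀ : d₀ ∈ D)
include hH hd₀

omit [Finite G] hd₀ in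
theorem exists_nb_not_commute {d b : G} (hd : d ∈ D) (hdb : ¬ Commute d b) :
    ∃ y ∈ nb D d, ¬ Commute b y := by
  by_contra! h
  exact hdb (Subgroup.mem_centralizer_singleton_iff.1 (hH.centralizer_le_of_nb hd
    (H := Subgroup.centralizer ({b} : Set G))
    (fun y hy => Subgroup.mem_centralizer_singleton_iff.2 (h y hy).eq.symm) (hH.self_mem_centralizer d)))

theorem closure_eq_top : Subgroup.closure D = ⊤ := by
  set L := Subgroup.closure D
  have hC : ∀ x ∈ D, Subgroup.centralizer ({x} : Set G) ≤ L := fun x hx =>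
    hH.centralizer_le_of_nb hx fun y hy => Subgroup.subset_closure hy.1
  have hS := hH.isSet
  have hconj : ∀ y ∈ D, ∃ l ∈ L, l * d₀ * l⁻¹ = y := by
    intro y hy
    by_cases hc : Commute d₀ y
    · by_cases he : y = d₀
      · exact ⟨1, one_mem _, by simp [he]⟩
      · obtain ⟨a, ha, hay', -, hay, -⟩ := hH.common d₀ hd₀ y ⟨hy, he, hc⟩ y ⟨hy, he, hc⟩
        obtain ⟨g, hg, hgy⟩ := hH.nbtrans a ha.1 d₀ (hH.nb_symm hd₀ ha) y ⟨hy, hay'.symm, hay⟩
        exact ⟨g, hC a ha.1 (Subgroup.mem_centralizer_singleton_iff.2 hg.eq), hgy⟩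
    · refine ⟨d₀ * y, mul_mem (Subgroup.subset_closure hd₀) (Subgroup.subset_closure hy), ?_⟩
      have hb := braid hS hd₀ hy hc
      rw [mul_inv_rev, hH.inv_mem_eq hy, hH.inv_mem_eq hd₀]
      rw [show d₀ * y * d₀ * (y * d₀) = (d₀ * y * d₀) * y * d₀ by group, hb, hH.mul_mul_self hy,
        hH.mul_mul_self hd₀]
  rw [eq_top_iff]
  intro g _
  obtain ⟨l, hl, hly⟩ := hconj _ (hH.conj g d₀ hd₀)
  have : l⁻¹ * g ∈ L := by
    refine hC d₀ hd₀ (Subgroup.mem_centralizer_singleton_iff.2 ?_)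
    calc l⁻¹ * g * d₀ = l⁻¹ * (g * d₀ * g⁻¹) * g := by group
      _ = d₀ * (l⁻¹ * g) := by rw [← hly]; group
  simpa using mul_mem hl this

theorem isGroup : IsThreeTranspositionGroup D :=
  ⟨hH.isSet, hH.conj, hH.closure_eq_top hd₀⟩

end Hyp

end Cfsg.Agent.Lib.Fischer3T52.TwentyThree.Recog
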