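import Cfsg.Agent.Lib.Fischer3T52.TwentyThree.Recog.Hyp

/-!
# First consequences of the local hypotheses
-/

set_option autoImplicit false
set_option linter.unusedSectionVars false

namespace Cfsg.Agent.Lib.Fischer3T52.TwentyThree.Recog

open Cfsg Cfsg.Agent.Lib.ThreeTransp Cfsg.Agent.Lib.M22Struct66
open Cfsg.Agent.Lib.Fischer3T60.Recog (le_of_prod_mem)

variable {G : Type*} [Group G] {D : Set G}

namespace Hyp

variable (hH : Hyp D)
include hH

theorem inv_mem_eq {x : G} (hx : x ∈ D) : x⁻¹ = x := inv_eq_of_mul_eq_one_right (hH.sq x hx)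

theorem mm_cancel {x : G} (hx : x ∈ D) (y : G) : x * (x * y) = y := by rw [← mul_assoc, hH.sq x hx, one_mul]

theorem sandwich_mem {x y : G} (hx : x ∈ D) (hy : y ∈ D) : x * y * x ∈ D := by
  have := hH.conj x y hy
  rwa [hH.inv_mem_eq hx] at this

theorem sandwich_sandwich {x : G} (hx : x ∈ D) (y : G) : x * (x * y * x) * x = y := by
  simp only [← mul_assoc, hH.sq x hx, one_mul]
  rw [mul_assoc, hH.sq x hx, mul_one]

theorem commute_sandwich {x : G} (hx : x ∈ D) (a b : G) :
    Commute (x * a * x) (x * b * x) ↔ Commute a b := by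
  have := commute_conj_iff x (a := a) (b := b)
  rwa [hH.inv_mem_eq hx] at this

theorem sandwich_fix {x y : G} (hx : x ∈ D) : x * y * x = y ↔ Commute x y := by
  constructor
  · intro h
    show x * y = y * x
    conv_rhs => rw [← h, mul_assoc, hH.sq x hx, mul_one]
  · intro h
    rw [h.eq, mul_assoc, hH.sq x hx, mul_one]

theorem mul_mul_self {x : G} (hx : x ∈ D) (y : G) : y * x * x = y := by rw [mul_assoc, hH.sq x hx, mul_one]

theorem nb_symm {x y : G} (hx : x ∈ D) (hy : y ∈ nb D x) : x ∈ nb D y := ⟨hx, hy.2.1.symm, hy.2.2.symm⟩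

theorem three {x : G} (hx : x ∈ D) {a b c : G} (ha : a ∈ nb D x) (hb : b ∈ nb D x) (hc : c ∈ nb D x)
    (hnd : [a, b, c].Nodup) (hab : Commute a b) (hac : Commute a c) (hbc : Commute b c) : a * b * c ≠ x := by
  have h := hH.short x hx [a, b, c] hnd (by simp) (by simp) (List.forall_mem_cons.2 ⟨ha, List.forall_mem_cons.2 ⟨hb, List.forall_mem_singleton.2 hc⟩⟩)
    (by simp [hab, hac, hbc, hab.symm, hac.symm, hbc.symm, Commute.refl])
  simpa [mul_assoc] using h

omit hH in
theorem mem_nb {x y : G} (hy : y ∈ D) (hne : y ≠ x) (hc : Commute x y) : y ∈ nb D x := ⟨hy, hne, hc⟩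

theorem nb_conj (g : G) {x y : G} (hy : y ∈ nb D x) : g * y * g⁻¹ ∈ nb D (g * x * g⁻¹) :=
  conj_mem_nb hH.conj g hy

theorem centralizer_le_of_nb {x : G} (hx : x ∈ D) {H : Subgroup G} (h : ∀ y ∈ nb D x, y ∈ H) :
    Subgroup.centralizer ({x} : Set G) ≤ H := hH.gen x hx ▸ (Subgroup.closure_le H).2 h

theorem le_of_pairs {x : G} (hx : x ∈ D) {Z : Subgroup G} (h : ∀ s ∈ nb D x, ∀ t ∈ nb D x, s * t ∈ Z) :
    Subgroup.centralizer ({x} : Set G) ≤ Z :=
  le_of_prod_mem (hH.gen x hx) (fun s hs => hH.sq s hs.1) (hH.perfect x hx) h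

theorem self_mem_centralizer (x : G) : x ∈ Subgroup.centralizer ({x} : Set G) :=
  Subgroup.mem_centralizer_singleton_iff.2 rfl

/-- Every member fails to commute with some other. -/
theorem exists_partner {x : G} (hx : x ∈ D) {a : G} (ha : a ∈ nb D x) :
    ∃ b ∈ nb D x, ¬ Commute a b := by
  by_contra! h
  rcases hH.central x hx a ha.2.2.symm fun y hy => (h y hy).symm with e | e
  exacts [hH.ne_one a ha.1 e, ha.2.1 e]

theorem nb_nonempty {x : G} (hx : x ∈ D) : (nb D x).Nonempty := hH.nonempty x hx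

theorem mul_eq_one_iff {a b : G} (ha : a ∈ D) : a * b = 1 ↔ b = a := by
  rw [mul_eq_one_iff_inv_eq, hH.inv_mem_eq ha, eq_comm]

/-- `x * (d t)` is a member only if `x` is `d` or `t`. -/
theorem eq_of_mul_mem {d t x : G} (hd : d ∈ D) (ht : t ∈ nb D d) (hx : x ∈ D) (hxd : Commute x d)
    (hxt : Commute x t) (hmem : x * (d * t) ∈ D) : x = d ∨ x = t := by
  by_contra! hne
  have hdd := hH.sq d hd
  have htt := hH.sq t ht.1
  set z := x * (d * t) with hz
  have hxz : Commute x z := (Commute.refl x).mul_right (hxd.mul_right hxt)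
  have hzx : z ≠ x := fun e => by
    rw [hz, mul_eq_left] at e
    exact ht.2.1 ((hH.mul_eq_one_iff hd).1 e)
  have h1 : d ∈ nb D x := ⟨hd, hne.1.symm, hxd⟩
  have h2 : t ∈ nb D x := ⟨ht.1, hne.2.symm, hxt⟩
  have h3 : z ∈ nb D x := ⟨hmem, hzx, hxz⟩
  have hdz : Commute d z := (hxd.symm).mul_right ((Commute.refl d).mul_right ht.2.2)
  have htz : Commute t z := (hxt.symm).mul_right (ht.2.2.symm.mul_right (Commute.refl t))
  refine hH.three hx h1 h2 h3 ?_ ht.2.2 hdz htz ?_
  · simp only [List.nodup_cons, List.mem_cons, List.not_mem_nil, or_false, not_or, not_false_eq_true,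
      List.nodup_nil, and_true]
    refine ⟨⟨ht.2.1.symm, fun e => hne.2 ?_⟩, fun e => hne.1 ?_⟩
    · rw [hz, ← mul_assoc] at e
      have h := congrArg (· * t) e
      simp only [mul_assoc, htt, mul_one] at h
      calc x = x * d * d := by rw [mul_assoc, hdd, mul_one]
        _ = (d * t) * d := by rw [h]
        _ = t := by rw [ht.2.2.eq, mul_assoc, hdd, mul_one]
    · rw [hz, ← mul_assoc] at e
      have h : x * d = 1 := mul_right_cancel (e.symm.trans (one_mul t).symm)
      exact mul_left_injective d (h.trans hdd.symm)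
  · rw [hz, (hxd.symm.mul_left hxt.symm).eq.symm, ← mul_assoc,
      show d * t * (d * t) = 1 by rw [← mul_assoc, mul_assoc d, ← ht.2.2.eq, ← mul_assoc, hdd, one_mul, htt], one_mul]

/-- A member commuting with the product of two commuting neighbours of `x` commutes with both. -/
theorem commute_of_commute_mul {x a b y : G} (hx : x ∈ D) (ha : a ∈ nb D x) (hb : b ∈ nb D x)
    (hy : y ∈ nb D x) (hab : a ≠ b) (h : Commute y (a * b)) : Commute y a ∧ Commute y b := by
  have hS := hH.nbset x hx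
  by_cases h1 : Commute a y
  · refine ⟨h1.symm, ?_⟩
    have := (Commute.inv_right h1.symm).mul_right h
    rwa [inv_mul_cancel_left] at this
  · by_cases h2 : Commute b y
    · refine absurd ?_ h1
      have := h.mul_right (Commute.inv_right h2.symm)
      rw [mul_inv_cancel_right] at this
      exact this.symm
    · exact absurd (Products.eq_of_commute_mul hS ha hb hy h1 h2 h) hab

/-- `a * (a b) ^ m` is a member. -/
theorem rot_mem {a b : G} (ha : a ∈ D) (hb : b ∈ D) : ∀ m : ℕ, a * (a * b) ^ m ∈ D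
  | 0 => by simpa using ha
  | 1 => by simpa [hH.mm_cancel ha] using hb
  | m + 2 => by
    have h := hH.conj ((a * b)⁻¹) _ (rot_mem ha hb m)
    have e : a * (a * b) ^ (m + 2) = (a * b)⁻¹ * (a * (a * b) ^ m) * (a * b)⁻¹⁻¹ := by
      rw [inv_inv, pow_succ, pow_succ', mul_inv_rev, hH.inv_mem_eq ha, hH.inv_mem_eq hb]
      simp only [mul_assoc, hH.mm_cancel ha, hH.mm_cancel hb]
    rw [e]; exact h

end Hyp

end Cfsg.Agent.Lib.Fischer3T52.TwentyThree.Recog
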