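import Cfsg.Agent.Lib.Fischer3T60.Recog.Hyp

/-!
# Local hypotheses at a member, for members whose centralisers lie over type M(22)

The organisation follows `Fischer3T60/Recog`; here a member has an even number of neighbours and there are no lines of five.
-/

set_option autoImplicit false
set_option linter.unusedSectionVars false

namespace Cfsg.Agent.Lib.Fischer3T52.TwentyThree.Recog

open Cfsg Cfsg.Agent.Lib.ThreeTransp Cfsg.Agent.Lib.M22Struct66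
open Cfsg.Agent.Lib.Fischer3T60.Recog (le_of_prod_mem)

variable {G : Type*} [Group G]

/-- What is known about the members commuting with one member before `D` is known to be 3-transpositions. -/
structure Hyp (D : Set G) : Prop where
  sq : ∀ x ∈ D, x * x = 1
  ne_one : ∀ x ∈ D, x ≠ 1
  conj : ∀ g : G, ∀ x ∈ D, g * x * g⁻¹ ∈ D
  trans : ∀ x ∈ D, ∀ y ∈ D, ∃ g : G, g * x * g⁻¹ = y
  nbset : ∀ x ∈ D, IsThreeTranspositionSet (nb D x)
  gen : ∀ x ∈ D, Subgroup.closure (nb D x) = Subgroup.centralizer ({x} : Set G)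
  perfect : ∀ x ∈ D, commutator ↥(Subgroup.centralizer ({x} : Set G)) = ⊤
  central : ∀ x ∈ D, ∀ z : G, Commute z x → (∀ y ∈ nb D x, Commute y z) → z = 1 ∨ z = x
  two : ∀ x ∈ D, ∀ a ∈ nb D x, ∀ b ∈ nb D x, a * b ≠ x
  short : ∀ x ∈ D, ∀ l : List G, l.Nodup → 1 ≤ l.length → l.length ≤ 5 → (∀ a ∈ l, a ∈ nb D x) →
    (∀ a ∈ l, ∀ b ∈ l, Commute a b) → l.prod ≠ x
  nbtrans : ∀ x ∈ D, ∀ a ∈ nb D x, ∀ b ∈ nb D x, ∃ g : G, Commute g x ∧ g * a * g⁻¹ = b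
  common : ∀ x ∈ D, ∀ a ∈ nb D x, ∀ b ∈ nb D x,
    ∃ c ∈ nb D x, c ≠ a ∧ c ≠ b ∧ Commute c a ∧ Commute c b
  nonempty : ∀ x ∈ D, (nb D x).Nonempty
  com2_odd : ∀ x ∈ D, ∀ a ∈ nb D x, Odd (com2 D x a).ncard
  spread : ∀ x ∈ D, ∀ a ∈ nb D x, ∀ y ∈ com2 D x a, ∀ y' ∈ com2 D x a, ¬ Commute y y' →
    ∃ u ∈ com2 D x a, u ≠ y ∧ Commute y u ∧ ¬ Commute u y'
  triple : ∀ x ∈ D, ∀ a ∈ nb D x, ∀ c ∈ com2 D x a, (com2 D x a ∩ nb D c).Nonempty
  self : ∀ x ∈ D, ∀ a ∈ nb D x, ∀ n : G, Commute n x → Commute n a →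
    (∀ y ∈ com2 D x a, Commute n y) → n * n = 1

end Cfsg.Agent.Lib.Fischer3T52.TwentyThree.Recog
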