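import Cfsg.Agent.Lib.Fischer3T52.TwentyThree.Recog.Basic

/-!
# No member interchanges two commuting members
-/

set_option autoImplicit false
set_option linter.unusedSectionVars false

namespace Cfsg.Agent.Lib.Fischer3T52.TwentyThree.Recog

open Cfsg Cfsg.Agent.Lib.ThreeTransp Cfsg.Agent.Lib.M22Struct66
open Cfsg.Agent.Lib.Fischer3T60.Recog (le_of_prod_mem)

variable {G : Type*} [Group G] [Finite G] {D : Set G}

namespace Hyp

variable (hH : Hyp D) {d t : G} (hd : d ∈ D) (ht : t ∈ nb D d)
include hH hd ht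

theorem no_swap {x : G} (hx : x ∈ D) : x * d * x ≠ t := by
  intro hswap
  have hdd := hH.sq d hd
  have hxx := hH.sq x hx
  have hxtx : x * t * x = d := by rw [← hswap, hH.sandwich_sandwich hx]
  have hdt : d ≠ t := ht.2.1.symm
  have hi : x * (d * t) * x = d * t := by
    rw [show x * (d * t) * x = (x * d * x) * (x * t * x) by simp [mul_assoc, hH.mm_cancel hx], hswap, hxtx]
    exact ht.2.2.symm.eq
  have hxi : Commute x (d * t) := (hH.sandwich_fix hx).1 hi
  have hxd : x ≠ d := fun e => hdt (by rw [← hswap, e, hdd, one_mul])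
  -- no common neighbour commutes with `x`
  have hno : ∀ y ∈ com2 D d t, ¬ Commute x y := by
    intro y hy hxy
    have hxy' : x ≠ y := by
      rintro rfl
      exact hdt (((hH.sandwich_fix hx).2 hy.1.2.2.symm).symm.trans hswap)
    have h1 : x ∈ nb D y := ⟨hx, hxy', hxy.symm⟩
    have h2 : d ∈ nb D y := hH.nb_symm hd hy.1
    have hsq : (x * d) ^ 2 = t * d := by rw [pow_two, ← mul_assoc, hswap]
    rcases (hH.nbset y hy.1.1).2 x h1 d h2 with h | h
    · rw [hsq] at h
      exact hdt ((hH.mul_eq_one_iff ht.1).1 h)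
    · rw [pow_succ', hsq] at h
      have h' : x * d * (t * d) * (t * d) = t * d := by rw [h, one_mul]
      have hsq1 : (t * d) * (t * d) = 1 := by
        rw [← mul_assoc, mul_assoc t, ht.2.2.eq, ← mul_assoc, hH.sq t ht.1, one_mul, hdd]
      rw [mul_assoc (x * d), hsq1, mul_one] at h'
      exact hdt (by rw [← hswap, mul_right_cancel h', hH.sandwich_fix ht.1 |>.2 ht.2.2.symm])
  set f : G → G := fun y => x * y * x with hf
  have hfM : ∀ y ∈ com2 D d t, f y ∈ com2 D d t := by
    intro y hy
    have h1 := hH.nb_conj x hy.1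
    have h2 := hH.nb_conj x hy.2
    rw [hH.inv_mem_eq hx, hswap] at h1
    rw [hH.inv_mem_eq hx, hxtx] at h2
    exact ⟨h2, h1⟩
  have hff : ∀ y, f (f y) = y := fun y => hH.sandwich_sandwich hx y
  set M := (Set.toFinite (com2 D d t)).toFinset
  have key : (∑ _y ∈ M, (1 : ZMod 2)) = 0 := by
    refine Finset.sum_involution (fun y _ => f y) (fun _ _ => rfl) ?_ ?_ ?_
    · intro y hy _ e
      rw [Set.Finite.mem_toFinset] at hy
      exact hno y hy ((hH.sandwich_fix hx).1 e)
    · intro y hy
      rw [Set.Finite.mem_toFinset] at hy ⊢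
      exact hfM y hy
    · exact fun y _ => hff y
  rw [Finset.sum_const, nsmul_one, ZMod.natCast_eq_zero_iff_even,
    ← Set.ncard_eq_toFinset_card _ (Set.toFinite _)] at key
  exact Nat.not_even_iff_odd.2 (hH.com2_odd d hd t ht) key

end Hyp

end Cfsg.Agent.Lib.Fischer3T52.TwentyThree.Recog
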