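import Cfsg.Agent.Lib.Fischer3T52.TwentyThree.Recog.Core
import Cfsg.Agent.Lib.Fischer3T60.Recog.Order3

/-!
# The class is a class of 3-transpositions
-/

set_option autoImplicit false
set_option linter.unusedSectionVars false

namespace Cfsg.Agent.Lib.Fischer3T52.TwentyThree.Recog

open Cfsg Cfsg.Agent.Lib.ThreeTransp Cfsg.Agent.Lib.M22Struct66
open Cfsg.Agent.Lib.Fischer3T60.Recog (le_of_prod_mem)
open Cfsg.Agent.Lib.Fischer3T60.Recog (eq_one_of_odd conj_pow_inverted)

variable {G : Type*} [Group G] [Finite G] {D : Set G}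

namespace Hyp

variable (hH : Hyp D)
include hH

omit [Finite G] in
theorem pow_comm_both {a b : G} (ha : a ∈ D) (hb : b ∈ D) {m : ℕ}
    (h2 : (a * b) ^ m * (a * b) ^ m = 1) : Commute a ((a * b) ^ m) ∧ Commute b ((a * b) ^ m) := by
  have hai := hH.inv_mem_eq ha
  have hbi := hH.inv_mem_eq hb
  have hinv : ((a * b) ^ m)⁻¹ = (a * b) ^ m := inv_eq_of_mul_eq_one_right h2
  have e1 : a * (a * b) ^ m * a = ((a * b) ^ m)⁻¹ := by
    have := conj_pow (i := m) (a := a) (b := a * b)
    rw [hai, hH.mm_cancel ha] at this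
    rw [← this, ← inv_pow, mul_inv_rev, hai, hbi]
  have e2 : b * (a * b) ^ m * b = ((a * b) ^ m)⁻¹ := by
    have := conj_pow (i := m) (a := b) (b := a * b)
    rw [hbi, show b * (a * b) * b = b * a * (b * b) by group, hH.sq b hb, mul_one] at this
    rw [← this, ← inv_pow, mul_inv_rev, hai, hbi]
  rw [hinv] at e1 e2
  exact ⟨(hH.sandwich_fix ha).1 e1, (hH.sandwich_fix hb).1 e2⟩

theorem half_power {x : G} {m : ℕ} (hm : orderOf x = 2 * m) : x ^ m * x ^ m = 1 ∧ x ^ m ≠ 1 := by
  refine ⟨by rw [← pow_add, ← two_mul, ← hm, pow_orderOf_eq_one], fun h => ?_⟩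
  have h1 := orderOf_pos x
  have := Nat.le_of_dvd (by omega) (orderOf_dvd_of_pow_eq_one h)
  omega

/-- Two members that do not commute have a product of odd order. -/
theorem odd_order {d b : G} (hd : d ∈ D) (hb : b ∈ D) (hdb : ¬ Commute d b) : Odd (orderOf (d * b)) := by
  by_contra hev
  rw [Nat.not_odd_iff_even] at hev
  obtain ⟨m, hm⟩ := hev
  obtain ⟨h2, h1⟩ := hH.half_power (x := d * b) (m := m) (by omega)
  obtain ⟨hzd, hzb⟩ := hH.pow_comm_both hd hb h2
  set z := (d * b) ^ m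
  have hxD : d * z ∈ D := hH.rot_mem hd hb m
  have hx : d * z ∈ nb D d := ⟨hxD, fun e => h1 (mul_eq_left.1 e), (Commute.refl d).mul_right hzd⟩
  exact hdb ((hH.commute_pair hd hx (b := b) hb (by rwa [hH.mm_cancel hd])).1).symm

/-- Either the product has order 3, or `b` centralises the product of `d`, `y` and a common neighbour. -/
theorem mate_facts {d b y : G} (hd : d ∈ D) (hb : b ∈ D) (hdb : ¬ Commute d b) (hy : y ∈ nb D d)
    (hby : ¬ Commute b y) :
    (d * b) ^ 3 = 1 ∨ ∃ c ∈ com2 D d y, Commute b (d * y * c) := by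
  obtain ⟨hii, hi1, hid, hdK, hyK, hdi⟩ := hH.pair_facts hd hy
  set i := d * y with hi
  have hdd := hH.sq d hd
  have hbb := hH.sq b hb
  have hbi : ¬ Commute b i := fun h => hdb (hH.commute_pair hd hy hb h).1.symm
  have hbinv := hH.inv_mem_eq hb
  have hiinv : i⁻¹ = i := inv_eq_of_mul_eq_one_right hii
  -- `b (b i) ^ n` is conjugate to `b` for even `n`, `i (b i) ^ n` for odd `n`
  have hconj : ∀ n : ℕ, b * (b * i) ^ (2 * n) ∈ D ∧ i * (b * i) ^ (2 * n + 1) ∈ D := by
    intro n
    induction n with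
    | zero => exact ⟨by simpa using hb, by
        have := hH.conj i b hb
        rw [hiinv] at this
        simpa [mul_assoc] using this⟩
    | succ n ih =>
      have e1 : b * (b * i) ^ (2 * (n + 1)) = (b * i)⁻¹ * (b * (b * i) ^ (2 * n)) * (b * i)⁻¹⁻¹ := by
        rw [inv_inv, show 2 * (n + 1) = 2 * n + 1 + 1 by ring, pow_succ, pow_succ', mul_inv_rev, hbinv, hiinv]
        simp only [mul_assoc, hH.mm_cancel hb]
      have e2 : i * (b * i) ^ (2 * (n + 1) + 1) = (b * i)⁻¹ * (i * (b * i) ^ (2 * n + 1)) * (b * i)⁻¹⁻¹ := by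
        rw [inv_inv, show 2 * (n + 1) + 1 = (2 * n + 1) + 1 + 1 by ring, pow_succ, pow_succ', mul_inv_rev,
          hbinv, hiinv]
        simp only [mul_assoc, ← mul_assoc i i, hii, one_mul]
      rw [e1, e2]
      exact ⟨hH.conj _ _ ih.1, hH.conj _ _ ih.2⟩
  obtain ⟨m, hm⟩ : Even (orderOf (b * i)) := by
    rw [← Nat.not_odd_iff_even]
    rintro ⟨m, hm⟩
    have h1 : (b * i) ^ (2 * m + 1) = 1 := by rw [← hm, pow_orderOf_eq_one]
    have hiD : i ∈ D := by
      have := (hconj m).2
      rwa [h1, mul_one] at this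
    exact hH.two d hd y hy i ⟨hiD, hid, (Commute.refl d).mul_right hy.2.2⟩
      (by rw [hi, hy.2.2.eq, hH.mm_cancel hy.1])
  have hm' : orderOf (b * i) / 2 = m := by omega
  obtain ⟨hjj, hj1⟩ := hH.half_power (x := b * i) (m := m) (by omega)
  set j := (b * i) ^ m with hj
  have hjb : Commute b j ∧ Commute i j := by
    have hinv : j⁻¹ = j := inv_eq_of_mul_eq_one_right hjj
    constructor
    · have := conj_pow (i := m) (a := b) (b := b * i)
      rw [hbinv, hH.mm_cancel hb] at this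
      have e : b * j * b = j⁻¹ := by rw [hj, ← this, ← inv_pow, mul_inv_rev, hbinv, hiinv]
      rw [hinv] at e
      exact (hH.sandwich_fix hb).1 e
    · have := conj_pow (i := m) (a := i) (b := b * i)
      rw [hiinv, show i * (b * i) * i = i * b * (i * i) by group, hii, mul_one] at this
      have e : i * j * i = j⁻¹ := by rw [← this, ← inv_pow, mul_inv_rev, hbinv, hiinv]
      rw [hinv] at e
      calc i * j = i * j * (i * i) := by rw [hii, mul_one]
        _ = (i * j * i) * i := by group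
        _ = j * i := by rw [e]
  obtain ⟨hjb, hji⟩ := hjb
  rcases Nat.even_or_odd m with ⟨n, hn⟩ | ⟨n, hn⟩
  · left
    have hbjD : b * j ∈ D := by rw [hj, show m = 2 * n by omega]; exact (hconj n).1
    have hbj : b * j ∈ nb D b := ⟨hbjD, fun e => hj1 (mul_eq_left.1 e), (Commute.refl b).mul_right hjb⟩
    have hib : i * b * i = b * j := by
      have h := hH.conj_of_commute hb hbj (k := i) (by rw [hH.mm_cancel hb]; exact hji)
      rw [hiinv] at h
      rcases h with h | h
      · refine absurd ?_ hbi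
        calc b * i = i * b * i * i := by rw [h]
          _ = i * b := by rw [mul_assoc (i * b), hii, mul_one]
      · exact h
    have hjd : j * d * j⁻¹ = y := by
      refine (hH.conj_of_commute hd hy (k := j) hji.symm).resolve_left fun h => hdb ?_
      have : Commute d (b * (b * j)) := by
        rw [hH.mm_cancel hb]
        exact (mul_inv_eq_iff_eq_mul.1 h).symm
      exact (hH.commute_pair hb hbj hd this).1
    have hjinv : j⁻¹ = j := inv_eq_of_mul_eq_one_right hjj
    rw [hjinv] at hjd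
    set x := d * b with hx
    have hxinv : x⁻¹ = b * d := by rw [hx, mul_inv_rev, hbinv, hH.inv_mem_eq hd]
    have hbib : b * i * b = i * j := by
      calc b * i * b = b * (i * b * i) * i := by
            rw [show b * (i * b * i) * i = b * i * b * (i * i) by group, hii, mul_one]
        _ = j * i := by rw [hib, hH.mm_cancel hb]
        _ = i * j := hji.eq.symm
    have hdjd : d * j * d = i * j := by
      calc d * j * d = d * (j * d * j) * j := by
            rw [show d * (j * d * j) * j = d * j * d * (j * j) by group, hjj, mul_one]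
        _ = i * j := by rw [hjd]
    have hdid : d * i * d = i := by
      rw [Subgroup.mem_centralizer_singleton_iff.1 hdK, hH.mul_mul_self hd]
    have hxi : x * i * x⁻¹ = j := by
      rw [hxinv, hx, show d * b * i * (b * d) = d * (b * i * b) * d by group, hbib,
        show d * (i * j) * d = d * i * (d * d) * j * d by rw [hdd]; group,
        show d * i * (d * d) * j * d = (d * i * d) * (d * j * d) by group, hdid, hdjd, ← mul_assoc, hii, one_mul]
    have hxj : x * j * x⁻¹ = i * j := by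
      rw [hxinv, hx, show d * b * j * (b * d) = d * (b * j * b) * d by group, (hH.sandwich_fix hb).2 hjb, hdjd]
    have hx3 : Commute (x ^ 3) i := by
      have e : x ^ 3 * i * (x ^ 3)⁻¹ = i := by
        rw [show x ^ 3 * i * (x ^ 3)⁻¹ = x * (x * (x * i * x⁻¹) * x⁻¹) * x⁻¹ by
            simp only [pow_succ, pow_zero, one_mul, mul_inv_rev, mul_assoc], hxi, hxj,
          show x * (i * j) * x⁻¹ = (x * i * x⁻¹) * (x * j * x⁻¹) by group, hxi, hxj, hji.eq, ← mul_assoc, hjj, one_mul]
      exact mul_inv_eq_iff_eq_mul.1 e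
    have hinvx : d * x * d = x⁻¹ := by rw [hxinv, hx, hH.mm_cancel hd]
    have hodd := hH.odd_order hd hb hdb
    rcases hH.conj_of_commute hd hy hx3 with h | h <;> rw [conj_pow_inverted hdd hinvx] at h
    · rw [mul_eq_right] at h
      refine eq_one_of_odd hodd ?_ (by rw [← pow_add]; exact h)
      rw [← pow_mul, mul_comm, pow_mul, pow_orderOf_eq_one, one_pow]
    · exfalso
      have h6 : x ^ (2 * 3) = i := by rw [hi, hy.2.2.eq, ← h, hH.mul_mul_self hd]
      refine hi1 (eq_one_of_odd hodd ?_ hii)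
      rw [← h6, ← pow_mul, mul_comm, pow_mul, pow_orderOf_eq_one, one_pow]
  · right
    have hcD : i * j ∈ D := by rw [hj, hn]; exact (hconj n).2
    have hci : Commute (i * j) (d * y) := (Commute.refl i).mul_left hji.symm
    obtain ⟨hcd, hcy⟩ := hH.commute_pair hd hy hcD hci
    have hjeq : j = i * (i * j) := by rw [← mul_assoc, hii, one_mul]
    have hcd1 : i * j ≠ d := fun e => hby (by
      have : j = y := by rw [hjeq, e, hi, hy.2.2.eq, hH.mul_mul_self hd]
      exact this ▸ hjb)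
    have hcy1 : i * j ≠ y := fun e => hdb (by
      have : j = d := by rw [hjeq, e, hi, hH.mul_mul_self hy.1]
      exact (this ▸ hjb).symm)
    have hc : i * j ∈ com2 D d y := ⟨⟨hcD, hcd1, hcd.symm⟩, hcD, hcy1, hcy.symm⟩
    exact ⟨i * j, hc, hjeq ▸ hjb⟩

/-- A conjugate of `d` under the centraliser of `d y c` commuting with all three is one of them. -/
theorem triple_unique {d y c g : G} (hd : d ∈ D) (hy : y ∈ nb D d) (hc : c ∈ com2 D d y)
    (hg : Commute g (d * y * c)) (h1 : Commute (g * d * g⁻¹) d) (h2 : Commute (g * d * g⁻¹) y)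
    (h3 : Commute (g * d * g⁻¹) c) : g * d * g⁻¹ = d ∨ g * d * g⁻¹ = y ∨ g * d * g⁻¹ = c := by
  by_contra! hne
  obtain ⟨x, hxdef⟩ : ∃ x, x = g * d * g⁻¹ := ⟨_, rfl⟩
  obtain ⟨u, hudef⟩ : ∃ u, u = g * y * g⁻¹ := ⟨_, rfl⟩
  obtain ⟨v, hvdef⟩ : ∃ v, v = g * c * g⁻¹ := ⟨_, rfl⟩
  rw [← hxdef] at h1 h2 h3 hne
  have hx : x ∈ D := hxdef ▸ hH.conj g d hd
  have hu : u ∈ nb D x := by rw [hudef, hxdef]; exact hH.nb_conj g hy
  have hv : v ∈ nb D x := by rw [hvdef, hxdef]; exact hH.nb_conj g hc.1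
  have huv : Commute u v := by rw [hudef, hvdef]; exact (commute_conj_iff g).2 hc.2.2.2
  have huv' : u ≠ v := by
    rw [hudef, hvdef]
    exact fun e => hc.2.2.1 (mul_left_cancel (mul_right_cancel e)).symm
  have hd' : d ∈ nb D x := ⟨hd, hne.1.symm, h1⟩
  have hy' : y ∈ nb D x := ⟨hy.1, hne.2.1.symm, h2⟩
  have hc' : c ∈ nb D x := ⟨hc.1.1, hne.2.2.symm, h3⟩
  have hj : x * u * v = d * y * c := by
    rw [hxdef, hudef, hvdef, show g * d * g⁻¹ * (g * y * g⁻¹) * (g * c * g⁻¹) = g * (d * y * c) * g⁻¹ by group,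
      hg.eq, mul_inv_cancel_right]
  have hxx := hH.sq x hx
  have huvj : u * v = x * (d * y * c) := by rw [← hj, ← mul_assoc, ← mul_assoc, hxx, one_mul]
  have hdj : Commute d (d * y * c) := ((Commute.refl d).mul_right hy.2.2).mul_right hc.1.2.2
  have hyj : Commute y (d * y * c) := (hy.2.2.symm.mul_right (Commute.refl y)).mul_right hc.2.2.2
  have hcj : Commute c (d * y * c) := (hc.1.2.2.symm.mul_right hc.2.2.2.symm).mul_right (Commute.refl c)
  obtain ⟨hdu, hdv⟩ := hH.commute_of_commute_mul hx hu hv hd' huv' (huvj ▸ h1.symm.mul_right hdj)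
  obtain ⟨hyu, hyv⟩ := hH.commute_of_commute_mul hx hu hv hy' huv' (huvj ▸ h2.symm.mul_right hyj)
  obtain ⟨hcu, hcv⟩ := hH.commute_of_commute_mul hx hu hv hc' huv' (huvj ▸ h3.symm.mul_right hcj)
  have hprod : d * y * c * (u * v) = x := by
    rw [← hj, show x * u * v * (u * v) = x * ((u * v) * (u * v)) by group,
      huv.symm.mul_mul_mul_comm, hH.sq u hu.1, hH.sq v hv.1, one_mul, mul_one]
  have aux : ∀ a b e p q : G, a ∈ nb D x → b ∈ nb D x → e ∈ nb D x → q ∈ nb D x → a ≠ b → a ≠ e → b ≠ e →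
      Commute a b → Commute a e → Commute b e → Commute q b → Commute q e → p = a → p ≠ q →
      x ≠ b → x ≠ e → a * b * e * (p * q) = x → False := by
    intro a b e p q ha hb he hq hab hae hbe cab cae cbe cqb cqe hpa hpq hxb hxe h
    subst hpa
    have h' : b * e * q = x := by
      rw [← h, mul_assoc p b e, (cab.mul_right cae).eq, mul_assoc (b * e) p, ← mul_assoc p p q, hH.sq p ha.1,
        one_mul]
    by_cases e1 : q = b
    · subst e1
      rw [cbe.eq, mul_assoc, hH.sq q hq.1, mul_one] at h'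
      exact hxe h'.symm
    by_cases e2 : q = e
    · subst e2
      rw [mul_assoc, hH.sq q hq.1, mul_one] at h'
      exact hxb h'.symm
    exact hH.three hx hb he hq (by simp [hbe, Ne.symm e1, Ne.symm e2]) cbe cqb.symm cqe.symm h'
  have hdy : d ≠ y := hy.2.1.symm
  have hdc : d ≠ c := hc.1.2.1.symm
  have hyc : y ≠ c := hc.2.2.1.symm
  have cdy := hy.2.2
  have cdc := hc.1.2.2
  have cyc := hc.2.2.2
  have p2 : y * d * c = d * y * c := by rw [cdy.eq]
  have p3 : c * d * y = d * y * c := ((cdc.symm.mul_right cyc.symm).eq.symm.trans (mul_assoc c d y).symm).symm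
  have hside : ∀ p q : G, p * q = u * v → p ∈ nb D x → q ∈ nb D x → p ≠ q → Commute d q → Commute y q →
      Commute c q → p ≠ d ∧ p ≠ y ∧ p ≠ c := by
    intro p q hpq hp hq hne' cd cy cc
    refine ⟨fun e => ?_, fun e => ?_, fun e => ?_⟩
    · exact aux d y c p q hd' hy' hc' hq hdy hdc hyc cdy cdc cyc cy.symm cc.symm e hne' hne.2.1 hne.2.2
        (by rw [hpq, hprod])
    · exact aux y d c p q hy' hd' hc' hq hdy.symm hyc hdc cdy.symm cyc cdc cd.symm cc.symm e hne' hne.1 hne.2.2
        (by rw [hpq, p2, hprod])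
    · exact aux c d y p q hc' hd' hy' hq hdc.symm hyc.symm hdy cdc.symm cyc.symm cdy cd.symm cy.symm e hne' hne.1
        hne.2.1 (by rw [hpq, p3, hprod])
  obtain ⟨u1, u2, u3⟩ := hside u v rfl hu hv huv' hdv hyv hcv
  obtain ⟨v1, v2, v3⟩ := hside v u huv.eq.symm hv hu huv'.symm hdu hyu hcu
  refine hH.short x hx [d, y, c, u, v] ?_ (by simp) (by simp) (List.forall_mem_cons.2 ⟨hd', List.forall_mem_cons.2 ⟨hy', List.forall_mem_cons.2 ⟨hc', List.forall_mem_cons.2 ⟨hu, List.forall_mem_singleton.2 hv⟩⟩⟩⟩) ?_ ?_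
  · simp [hdy, hdc, hyc, huv', u1.symm, u2.symm, u3.symm, v1.symm, v2.symm, v3.symm]
  · simp [cdy, cdy.symm, cdc, cdc.symm, cyc, cyc.symm, huv, huv.symm, hdu, hdu.symm, hdv, hdv.symm, hyu, hyu.symm,
      hyv, hyv.symm, hcu, hcu.symm, hcv, hcv.symm, Commute.refl]
  · simpa [mul_assoc] using hprod

/-- In a product of odd order one factor moves to the other inside its cyclic group. -/
theorem exists_move {a b z : G} (ha : a ∈ D) (hb : b ∈ D) (hab : ¬ Commute a b) (hza : Commute a z)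
    (hzb : Commute b z) : ∃ g, Commute g z ∧ g * a * g⁻¹ = b := by
  obtain ⟨k, hk⟩ := hH.odd_order hb ha fun h => hab h.symm
  refine ⟨(b * a) ^ (k + 1), (hzb.mul_left hza).pow_left _, ?_⟩
  rw [conj_pow_inverted (hH.sq a ha) (by rw [mul_inv_rev, hH.inv_mem_eq ha, hH.inv_mem_eq hb, ← mul_assoc,
    mul_assoc (a * b), hH.sq a ha, mul_one]) (k + 1), show 2 * (k + 1) = orderOf (b * a) + 1 by omega,
    pow_succ, pow_orderOf_eq_one, one_mul, hH.mul_mul_self ha]

theorem cube_eq_one {d b : G} (hd : d ∈ D) (hb : b ∈ D) (hdb : ¬ Commute d b) : (d * b) ^ 3 = 1 := by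
  by_cases hcom : ∃ y ∈ nb D d, Commute b y
  · obtain ⟨y, hy, hby⟩ := hcom
    refine cube_of_not_commute (hH.nbset y hy.1) (hH.nb_symm hd hy) ⟨hb, ?_, hby.symm⟩ hdb
    exact fun e => hdb (e ▸ hy.2.2)
  push Not at hcom
  by_contra h3
  obtain ⟨y, hy⟩ := hH.nb_nonempty hd
  obtain ⟨c, hc, hbj⟩ := (hH.mate_facts hd hb hdb hy (hcom y hy)).resolve_left h3
  obtain ⟨w, hw, hwc⟩ := hH.triple d hd y hy c hc
  have hdj : Commute d (d * y * c) := ((Commute.refl d).mul_right hy.2.2).mul_right hc.1.2.2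
  have hwj : Commute w (d * y * c) :=
    (hw.1.2.2.symm.mul_right hw.2.2.2.symm).mul_right hwc.2.2.symm
  have hbw : ¬ Commute b w := hcom w hw.1
  obtain ⟨g₁, hg₁, hg₁d⟩ := hH.exists_move hd hb hdb hdj hbj
  obtain ⟨g₂, hg₂, hg₂b⟩ := hH.exists_move hb hw.1.1 hbw hbj hwj
  have hgd : g₂ * g₁ * d * (g₂ * g₁)⁻¹ = w := by
    rw [← hg₂b, ← hg₁d]; group
  have h := hH.triple_unique hd hy hc (g := g₂ * g₁) (hg₂.mul_left hg₁) (by rw [hgd]; exact hw.1.2.2.symm)
    (by rw [hgd]; exact hw.2.2.2.symm) (by rw [hgd]; exact hwc.2.2.symm)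
  rw [hgd] at h
  rcases h with e | e | e
  exacts [hw.1.2.1 e, hw.2.2.1 e, hwc.2.1 e]

theorem isSet : IsThreeTranspositionSet D := by
  refine ⟨fun x hx => orderOf_eq_prime (by rw [pow_two]; exact hH.sq x hx) (hH.ne_one x hx), fun x hx y hy => ?_⟩
  by_cases h : Commute x y
  · left
    rw [h.mul_pow, pow_two, pow_two, hH.sq x hx, hH.sq y hy, one_mul]
  · exact Or.inr (hH.cube_eq_one hx hy h)

end Hyp

end Cfsg.Agent.Lib.Fischer3T52.TwentyThree.Recog
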